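import Cfsg.Agent.Lib.HNxyz.Main

/-!
# The double cover of HS is unique

Two perfect central extensions of HS with kernels of order two are isomorphic over HS: the derived
subgroup of their fibre product is a stem extension, so its kernel has order at most two.
-/

set_option autoImplicit false

namespace CfsgLib.HNRec

open Subgroup CfsgLib.Golay
open scoped commutatorElement

/-- Commutators do not see central factors. -/
theorem comm_central {P : Type*} [Group P] {u v k l : P} (hk : k ∈ center P) (hl : l ∈ center P) :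
    ⁅k * u, l * v⁆ = ⁅u, v⁆ := by
  have e1 : ∀ g, g * k = k * g := mem_center_iff.1 hk
  have e2 : ∀ g, g * l = l * g := mem_center_iff.1 hl
  simp only [commutatorElement_def, mul_inv_rev]
  have ek : ∀ g, g * k⁻¹ = k⁻¹ * g := mem_center_iff.1 (inv_mem hk)
  have el : ∀ g, g * l⁻¹ = l⁻¹ * g := mem_center_iff.1 (inv_mem hl)
  calc k * u * (l * v) * (u⁻¹ * k⁻¹) * (v⁻¹ * l⁻¹)
      = k * (u * l) * v * u⁻¹ * (k⁻¹ * v⁻¹) * l⁻¹ := by simp only [mul_assoc]
    _ = k * (l * u) * v * u⁻¹ * (v⁻¹ * k⁻¹) * l⁻¹ := by rw [e2 u, ← ek v⁻¹]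
    _ = k * l * (u * v * u⁻¹ * v⁻¹) * (k⁻¹ * l⁻¹) := by simp only [mul_assoc]
    _ = u * v * u⁻¹ * v⁻¹ * (k * l) * (k⁻¹ * l⁻¹) := by
      rw [← mem_center_iff.1 (mul_mem hk hl) (u * v * u⁻¹ * v⁻¹)]
    _ = u * v * u⁻¹ * v⁻¹ := by
      rw [show k⁻¹ * l⁻¹ = (k * l)⁻¹ by rw [mul_inv_rev, el], mul_inv_cancel_right]

/-- Homomorphisms from a perfect group that agree modulo the centre are equal. -/
theorem hom_eq_of_central {P Q : Type*} [Group P] [Group Q] (hP : commutator P = ⊤) (f g : P →* Q)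
    (h : ∀ x, g x * (f x)⁻¹ ∈ center Q) : f = g := by
  refine MonoidHom.ext fun x => ?_
  have hle : commutator P ≤ f.eqLocus g := by
    rw [_root_.commutator_def, commutator_le]
    intro u _ v _
    show f ⁅u, v⁆ = g ⁅u, v⁆
    rw [map_commutatorElement, map_commutatorElement, ← comm_central (h u) (h v),
      inv_mul_cancel_right, inv_mul_cancel_right]
  exact hle (hP ▸ mem_top x)

/-- Two perfect double covers are isomorphic over HS. -/
theorem exists_cover_iso {Γ Δ : Type} [Group Γ] [Finite Γ] [Group Δ] [Finite Δ]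
    (σ : Γ →* ↥HS.hsGroup) (τ : Δ →* ↥HS.hsGroup)
    (hσs : Function.Surjective σ) (hτs : Function.Surjective τ)
    (hσc : σ.ker ≤ center Γ) (hτc : τ.ker ≤ center Δ)
    (hΓ : commutator Γ = ⊤) (hΔ : commutator Δ = ⊤)
    (hσ2 : Nat.card σ.ker = 2) (hτ2 : Nat.card τ.ker = 2) :
    ∃ e : Γ ≃* Δ, ∀ g, τ (e g) = σ g := by
  let P : Subgroup (Γ × Δ) :=
    (σ.comp (MonoidHom.fst Γ Δ)).eqLocus (τ.comp (MonoidHom.snd Γ Δ))
  let ρ : ↥P →* ↥HS.hsGroup := (σ.comp (MonoidHom.fst Γ Δ)).comp P.subtype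
  have hρ : ∀ p : ↥P, σ p.1.1 = τ p.1.2 := fun p => p.2
  have hρs : Function.Surjective ρ := fun x => by
    obtain ⟨g, hg⟩ := hσs x
    obtain ⟨d, hd⟩ := hτs x
    exact ⟨⟨(g, d), hg.trans hd.symm⟩, hg⟩
  have hρc : ρ.ker ≤ center ↥P := by
    intro p hp
    have h1 : σ p.1.1 = 1 := hp
    have h2 : τ p.1.2 = 1 := (hρ p).symm.trans h1
    rw [mem_center_iff]
    intro q
    exact Subtype.ext (Prod.ext (mem_center_iff.1 (hσc h1) q.1.1) (mem_center_iff.1 (hτc h2) q.1.2))
  let P1 : Subgroup ↥P := commutator ↥P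
  let ρ1 : ↥P1 →* ↥HS.hsGroup := ρ.comp P1.subtype
  have hmap : P1.map ρ = ⊤ := by
    rw [show P1 = commutator ↥P from rfl, _root_.commutator_def, map_commutator,
      map_top_of_surjective ρ hρs, ← _root_.commutator_def, CfsgLib.Schur.Tails.HS.hs_perfect]
  have hρ1s : Function.Surjective ρ1 := fun x => by
    obtain ⟨p, hp, e⟩ := mem_map.1 (hmap ▸ mem_top x : x ∈ P1.map ρ)
    exact ⟨⟨p, hp⟩, e⟩
  have hperf : commutator ↥P1 = ⊤ := by
    refine map_injective P1.subtype_injective ?_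
    rw [← MonoidHom.range_eq_map, range_subtype]
    refine le_antisymm (fun x hx => ?_) ?_
    · obtain ⟨y, -, rfl⟩ := mem_map.1 hx
      exact y.2
    · show commutator ↥P ≤ _
      rw [_root_.commutator_def, commutator_le]
      intro u _ v _
      obtain ⟨u', hu⟩ := hρ1s (ρ u)
      obtain ⟨v', hv⟩ := hρ1s (ρ v)
      have cu : u * (u'.1)⁻¹ ∈ center ↥P := hρc (by
        rw [MonoidHom.mem_ker, map_mul, map_inv, show ρ u'.1 = ρ u from hu, mul_inv_cancel])
      have cv : v * (v'.1)⁻¹ ∈ center ↥P := hρc (by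
        rw [MonoidHom.mem_ker, map_mul, map_inv, show ρ v'.1 = ρ v from hv, mul_inv_cancel])
      have e := comm_central (u := u'.1) (v := v'.1) cu cv
      rw [inv_mul_cancel_right, inv_mul_cancel_right] at e
      rw [e]
      exact mem_map.2 ⟨⁅u', v'⁆, commutator_mem_commutator (mem_top _) (mem_top _),
        map_commutatorElement P1.subtype u' v'⟩
  have hc1 : ρ1.ker ≤ center ↥P1 := fun p hp => mem_center_iff.2 fun q =>
    Subtype.ext (mem_center_iff.1 (hρc (show p.1 ∈ ρ.ker from hp)) q.1)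
  obtain ⟨-, hdvd⟩ := CfsgLib.Schur.Tails.HS.bound ρ1 ⟨hρ1s, hc1, by rw [hperf]; exact le_top⟩
  have hcard : Nat.card ↥P1 ≤ 2 * Nat.card ↥HS.hsGroup := by
    rw [card_eq_card_quotient_mul_card_subgroup ρ1.ker,
      Nat.card_congr (QuotientGroup.quotientKerEquivOfSurjective ρ1 hρ1s).toEquiv, mul_comm]
    exact Nat.mul_le_mul_right _ (Nat.le_of_dvd (by norm_num) hdvd)
  have hcardΓ : Nat.card Γ = 2 * Nat.card ↥HS.hsGroup := by
    rw [card_eq_card_quotient_mul_card_subgroup σ.ker,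
      Nat.card_congr (QuotientGroup.quotientKerEquivOfSurjective σ hσs).toEquiv, hσ2, mul_comm]
  have hcardΔ : Nat.card Δ = 2 * Nat.card ↥HS.hsGroup := by
    rw [card_eq_card_quotient_mul_card_subgroup τ.ker,
      Nat.card_congr (QuotientGroup.quotientKerEquivOfSurjective τ hτs).toEquiv, hτ2, mul_comm]
  let p1 : ↥P1 →* Γ := ((MonoidHom.fst Γ Δ).comp P.subtype).comp P1.subtype
  let p2 : ↥P1 →* Δ := ((MonoidHom.snd Γ Δ).comp P.subtype).comp P1.subtype
  have h1s : Function.Surjective p1 := by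
    have e : P1.map ((MonoidHom.fst Γ Δ).comp P.subtype) = ⊤ := by
      rw [show P1 = commutator ↥P from rfl, _root_.commutator_def, map_commutator,
        map_top_of_surjective, ← _root_.commutator_def, hΓ]
      intro g
      obtain ⟨d, hd⟩ := hτs (σ g)
      exact ⟨⟨(g, d), hd.symm⟩, rfl⟩
    intro g
    obtain ⟨p, hp, hpg⟩ := mem_map.1 (e ▸ mem_top g : g ∈ P1.map _)
    exact ⟨⟨p, hp⟩, hpg⟩
  have h2s : Function.Surjective p2 := by
    have e : P1.map ((MonoidHom.snd Γ Δ).comp P.subtype) = ⊤ := by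
      rw [show P1 = commutator ↥P from rfl, _root_.commutator_def, map_commutator,
        map_top_of_surjective, ← _root_.commutator_def, hΔ]
      intro d
      obtain ⟨g, hg⟩ := hσs (τ d)
      exact ⟨⟨(g, d), hg⟩, rfl⟩
    intro d
    obtain ⟨p, hp, hpd⟩ := mem_map.1 (e ▸ mem_top d : d ∈ P1.map _)
    exact ⟨⟨p, hp⟩, hpd⟩
  let e1 : ↥P1 ≃* Γ := MulEquiv.ofBijective p1 (h1s.bijective_of_nat_card_le (hcardΓ ▸ hcard))
  let e2 : ↥P1 ≃* Δ := MulEquiv.ofBijective p2 (h2s.bijective_of_nat_card_le (hcardΔ ▸ hcard))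
  refine ⟨e1.symm.trans e2, fun g => ?_⟩
  have hg : p1 (e1.symm g) = g := e1.apply_symm_apply g
  show τ (p2 (e1.symm g)) = σ g
  conv_rhs => rw [← hg]
  exact ((e1.symm g).1.2).symm

end CfsgLib.HNRec
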