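import Cfsg.Agent.Lib.HNRec.Coords.Cover
import Cfsg.Agent.Lib.HNRec.Spec
import Cfsg.Agent.Lib.HNIndex.Model
import Cfsg.Agent.Lib.HNOut.Graph
import Mathlib.Algebra.Group.TypeTags.Basic

/-!
# Piece A: coordinates of the centraliser

The index two subgroup is the double cover inside 2.HS:2, and an element outside it can be chosen
to act on it as z; its square is central, so it is 1 or t.
-/

set_option autoImplicit false
set_option maxRecDepth 100000

namespace CfsgLib.HNRec

open Subgroup CfsgLib.Golay CfsgLib.HNxyz CfsgLib.HNIndex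
open scoped commutatorElement

/-- The trivial triple satisfies the relations. -/
theorem one_rels : XYZRels (1 : Unit) 1 1 := fun _ _ => rfl

/-- The group of x, y, z. -/
abbrev Mo : Type := Mg (1 : Unit) 1 1

/-- Its data. -/
noncomputable def mo : Data Mo := mData one_rels

/-- The double cover inside it. -/
noncomputable abbrev moN : Subgroup Mo := mo.N

/-- The exponent sum of the third letter. -/
def zExp (w : List ℕ) : ℤ :=
  Multiplicative.toAdd (evalW (elt (1 : Multiplicative ℤ) 1 (Multiplicative.ofAdd 1)) w)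

theorem zExp_rels : ∀ w ∈ xyzRels,
    if w = [4, 4] ∨ w = [4, 0, 4, 0] then zExp w = 2 else zExp w = 0 ∨ zExp w = 4 := by
  decide +kernel

theorem mo_c_sq : mo.c * mo.c = 1 := by
  have h := mo.rels [4, 4] (by decide)
  simp only [evalW, List.map_cons, List.map_nil, List.prod_cons, List.prod_nil, mul_one] at h
  exact h

variable {G : Type} [Group G] [Finite G] {t : G}

/-- The centraliser has order 177408000, and it has coordinates of one of the two variants. -/
theorem exists_coord (h : Hyp t) : Nat.card (centralizer ({t} : Set G)) = 177408000 ∧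
    ∃ a b c : G, Coord t a b c ∨ Twist t a b c := by
  classical
  obtain ⟨M, hMn, hM2, hout, hc2, ⟨e⟩, hsplit⟩ := h.cover
  haveI := hMn
  haveI := HS.hs_simple
  haveI := mo.finite
  haveI := mo.normal_N
  obtain ⟨eS⟩ := CfsgLib.Leech.HSVec.sporHS_equiv
  -- the map onto HS
  let σ : ↥M →* ↥HS.hsGroup :=
    (e.trans eS).toMonoidHom.comp (QuotientGroup.mk' (center ↥M))
  have hσs : Function.Surjective σ :=
    (e.trans eS).surjective.comp (QuotientGroup.mk'_surjective _)
  have hσk : σ.ker = center ↥M := by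
    ext x
    rw [MonoidHom.mem_ker]
    exact (map_eq_one_iff _ (e.trans eS).injective).trans (QuotientGroup.eq_one_iff x)
  have hperf : commutator ↥M = ⊤ := by
    have hsup : center ↥M ⊔ commutator ↥M = ⊤ := by
      rw [← hσk, sup_comm, ← comap_map_eq, _root_.commutator_def, map_commutator,
        map_top_of_surjective σ hσs, ← _root_.commutator_def, CfsgLib.Schur.Tails.HS.hs_perfect,
        comap_top]
    by_cases hle : center ↥M ≤ commutator ↥M
    · exact top_unique (hsup ▸ sup_le hle le_rfl)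
    · refine absurd ?_ (hsplit (commutator ↥M))
      refine isComplement'_of_disjoint_and_mul_eq_univ ?_ ?_
      · rw [disjoint_iff_inf_le]
        intro x hx
        by_contra hne
        refine hle fun y hy => ?_
        haveI : Fact (Nat.Prime 2) := ⟨Nat.prime_two⟩
        obtain ⟨k, hk⟩ := mem_zpowers_iff.1
          (mem_zpowers_of_prime_card (G := ↥(center ↥M)) hc2 (g := ⟨x, hx.1⟩)
            (g' := ⟨y, hy⟩) fun h1 => hne (mem_bot.2 (congrArg Subtype.val h1)))
        have hk' := congrArg Subtype.val hk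
        rw [Subgroup.coe_zpow] at hk'
        have := zpow_mem (show x ∈ commutator ↥M from hx.2) k
        rwa [hk'] at this
      · rw [← mul_normal, hsup, coe_top]
  -- t lies in M and generates its centre
  have htC : t ∈ centralizer ({t} : Set G) := mem_centralizer_singleton_iff.2 rfl
  have htM : (⟨t, htC⟩ : ↥(centralizer ({t} : Set G))) ∈ M := hout <| by
    rw [mem_centralizer_iff]
    intro m _
    exact Subtype.ext (mem_centralizer_singleton_iff.1 m.2)
  let tM : ↥M := ⟨⟨t, htC⟩, htM⟩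
  have htZ : tM ∈ center ↥M := mem_center_iff.2 fun m =>
    Subtype.ext (Subtype.ext (mem_centralizer_singleton_iff.1 m.1.2))
  have ht1 : t ≠ 1 := fun e1 => by
    have := h.order
    rw [e1, orderOf_one] at this
    norm_num at this
  have hcases : ∀ x : ↥M, x ∈ center ↥M → x = 1 ∨ x = tM := by
    intro x hx
    by_contra hne
    push Not at hne
    have h3 : 2 < Nat.card (center ↥M) := by
      have hsub : ({⟨1, one_mem _⟩, ⟨tM, htZ⟩, ⟨x, hx⟩} : Finset ↥(center ↥M)).card = 3 := by
        rw [Finset.card_insert_of_notMem, Finset.card_insert_of_notMem, Finset.card_singleton]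
        · intro hh
          rw [Finset.mem_singleton] at hh
          exact hne.2 (congrArg Subtype.val hh).symm
        · intro hh
          rw [Finset.mem_insert, Finset.mem_singleton] at hh
          rcases hh with hh | hh
          · exact ht1 (congrArg (fun u : ↥(center ↥M) => u.1.1.1) hh).symm
          · exact hne.1 (congrArg Subtype.val hh).symm
      haveI := Fintype.ofFinite ↥(center ↥M)
      have := Finset.card_le_univ ({⟨1, one_mem _⟩, ⟨tM, htZ⟩, ⟨x, hx⟩} : Finset ↥(center ↥M))
      rw [hsub, ← Nat.card_eq_fintype_card] at this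
      omega
    omega
  -- identify M with the double cover of the model
  obtain ⟨ψ, hψ⟩ := exists_cover_iso mo.σ σ mo.σ_surjective hσs mo.σ_kernel_central hσk.le
    mo.perfect' hperf mo.ker_eq.1 (hσk ▸ hc2)
  let A : ↥M := ψ ⟨mo.a, mo.mem_a⟩
  let B : ↥M := ψ ⟨mo.b, mo.mem_b⟩
  have hAA : A * A = tM := by
    refine (hcases _ ?_).resolve_left ?_
    · rw [← hσk, MonoidHom.mem_ker, ← map_mul, hψ]
      refine MonoidHom.mem_ker.1 (mo.mem_ker_σ.2 ?_)
      show mo.φ (mo.a * mo.a) = 1
      rw [map_mul, mo.map_a, px_sq]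
    · intro h1
      rw [← map_mul, map_eq_one_iff _ ψ.injective] at h1
      exact mo.sq_ne (congrArg Subtype.val h1)
  -- an element outside M acting as z
  obtain ⟨g0, hg0⟩ : ∃ g, g ∉ M := by
    by_contra hh
    push Not at hh
    rw [(eq_top_iff' M).2 hh, index_top] at hM2
    norm_num at hM2
  let γ : MulAut ↥M := MulAut.conjNormal g0
  have hγZ : (center ↥M).map γ.toMonoidHom = center ↥M := by
    have : (center ↥M).Characteristic := inferInstance
    exact Subgroup.characteristic_iff_map_eq.1 this γ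
  let β : MulAut ↥HS.hsGroup :=
    (e.trans eS).symm.trans ((QuotientGroup.congr _ _ γ hγZ).trans (e.trans eS))
  have hβ : ∀ m : ↥M, β (σ m) = σ (γ m) := fun m => by
    show (e.trans eS) (QuotientGroup.congr _ _ γ hγZ ((e.trans eS).symm (σ m))) = _
    rw [show (e.trans eS).symm (σ m) = QuotientGroup.mk' (center ↥M) m from
      (e.trans eS).symm_apply_apply _]
    rfl
  obtain ⟨α, hα⟩ := CfsgLib.M22Sub.graphConj_bijective.2 β
  have hαv : ∀ x : ↥HS.hsGroup, (β x).1 = α.1 * x.1 * α.1⁻¹ := fun x => by rw [← hα]; rfl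
  have fix_mem : ∀ g : ↥(centralizer ({t} : Set G)),
      (∀ m : ↥M, σ (MulAut.conjNormal g m) = σ m) → g ∈ M := by
    intro g hg
    refine hout (mem_centralizer_iff.2 fun m hm => ?_)
    have he : (MulAut.conjNormal g : MulAut ↥M).toMonoidHom = MonoidHom.id ↥M :=
      hom_eq_of_central hperf _ _ fun m' => by
        rw [← hσk, MonoidHom.mem_ker, map_mul, map_inv]
        show σ m' * (σ (MulAut.conjNormal g m'))⁻¹ = 1
        rw [hg, mul_inv_cancel]
    have e' := congrArg Subtype.val (DFunLike.congr_fun he ⟨m, hm⟩)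
    exact (mul_inv_eq_iff_eq_mul.1 (by simpa [MulAut.conjNormal_apply] using e')).symm
  have hαnot : α.1 ∉ HS.hsGroup := by
    intro hin
    obtain ⟨m0, hm0⟩ := hσs ⟨α.1, hin⟩
    refine hg0 ?_
    have hmem : g0 * (m0.1)⁻¹ ∈ M := by
      refine fix_mem _ fun m => Subtype.ext ?_
      have hv : α.1 = (σ m0).1 := by rw [hm0]
      rw [show MulAut.conjNormal (g0 * (m0.1)⁻¹) m = γ (m0⁻¹ * m * m0) from
        Subtype.ext (by simp [γ, MulAut.conjNormal_apply, mul_assoc]), ← hβ, hαv, map_mul, map_mul,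
        map_inv, hv]
      simp only [Subgroup.coe_mul, Subgroup.coe_inv]
      group
    simpa using mul_mem hmem m0.2
  have hh : pz⁻¹ * α.1 ∈ HS.hsGroup := by
    refine HS.mem_hsGroup.2 ⟨mul_mem (inv_mem mem_graph.2.2) α.2, ?_⟩
    have s1 : Equiv.Perm.sign pz = -1 := (Int.units_eq_one_or _).resolve_left fun hs =>
      pz_not_mem (HS.mem_hsGroup.2 ⟨mem_graph.2.2, hs⟩)
    have s2 : Equiv.Perm.sign α.1 = -1 := (Int.units_eq_one_or _).resolve_left fun hs =>
      hαnot (HS.mem_hsGroup.2 ⟨α.2, hs⟩)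
    rw [Equiv.Perm.sign_mul, Equiv.Perm.sign_inv, s1, s2]
    rfl
  obtain ⟨m0, hm0⟩ := hσs ⟨_, hh⟩
  set Cc : ↥(centralizer ({t} : Set G)) := g0 * (m0.1)⁻¹ with hCc
  have hCσ : ∀ m : ↥M, (σ (MulAut.conjNormal Cc m)).1 = pz * (σ m).1 * pz⁻¹ := by
    intro m
    rw [show MulAut.conjNormal Cc m = γ (m0⁻¹ * m * m0) from
      Subtype.ext (by simp [γ, hCc, MulAut.conjNormal_apply, mul_assoc]), ← hβ, hαv, map_mul,
      map_mul, map_inv]
    simp only [Subgroup.coe_mul, Subgroup.coe_inv, hm0]
    group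
  have hCM : Cc ∉ M := fun hc => hg0 (by simpa [hCc] using mul_mem hc m0.2)
  -- the action of that element is that of the third generator
  have hconj : (MulAut.conjNormal Cc : MulAut ↥M) =
      MulAut.congr ψ (MulAut.conjNormal mo.c) := by
    have he : (MulAut.conjNormal Cc : MulAut ↥M).toMonoidHom =
        (MulAut.congr ψ (MulAut.conjNormal mo.c)).toMonoidHom := by
      refine hom_eq_of_central hperf _ _ fun m => ?_
      rw [← hσk, MonoidHom.mem_ker, map_mul, map_inv, mul_inv_eq_one]
      refine Subtype.ext ?_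
      show (σ (ψ (MulAut.conjNormal mo.c (ψ.symm m)))).1 = (σ (MulAut.conjNormal Cc m)).1
      rw [hψ, hCσ]
      show mo.φ (mo.c * (ψ.symm m).1 * mo.c⁻¹) = _
      rw [map_mul, map_mul, map_inv, mo.map_c]
      have em : σ m = mo.σ (ψ.symm m) := by rw [← hψ, ψ.apply_symm_apply]
      rw [em]
      rfl
    exact MulEquiv.ext fun m => DFunLike.congr_fun he m
  have hzpow : ∀ (k : ℤ) (n : ↥moN),
      (MulAut.conjNormal (Cc ^ k) : MulAut ↥M) (ψ n) = ψ (MulAut.conjNormal (mo.c ^ k) n) := by
    intro k n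
    rw [map_zpow, hconj, ← map_zpow, ← map_zpow]
    show ψ (MulAut.conjNormal (mo.c ^ k) (ψ.symm (ψ n))) = _
    rw [ψ.symm_apply_apply]
  obtain ⟨z, hz, hCC⟩ : ∃ z : ↥M, (z = 1 ∨ z = tM) ∧ Cc * Cc = z.1 := by
    have hsq : ∀ m : ↥M, (MulAut.conjNormal (Cc * Cc) : MulAut ↥M) m = m := fun m => by
      obtain ⟨n, rfl⟩ := ψ.surjective m
      have e2 := hzpow 2 n
      rw [zpow_two, zpow_two, mo_c_sq, map_one] at e2
      simpa using e2
    have hm : Cc * Cc ∈ M := fix_mem _ fun m => by rw [hsq]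
    refine ⟨⟨Cc * Cc, hm⟩, hcases _ (mem_center_iff.2 fun m => ?_), rfl⟩
    have e' := congrArg Subtype.val (hsq m)
    rw [MulAut.conjNormal_apply] at e'
    exact Subtype.ext (mul_inv_eq_iff_eq_mul.1 e').symm
  -- the homomorphism from pairs
  let X : Mo × Multiplicative ℤ := (mo.a, 1)
  let Y : Mo × Multiplicative ℤ := (mo.b, 1)
  let Z : Mo × Multiplicative ℤ := (mo.c, Multiplicative.ofAdd 1)
  let K2 : Subgroup (Mo × Multiplicative ℤ) := closure {X, Y, Z}
  have c2 : ∀ k : ℤ, mo.c ^ k * mo.c ^ k = 1 := fun k => by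
    rw [← (Commute.refl mo.c).mul_zpow, mo_c_sq, one_zpow]
  have hmem : ∀ p ∈ K2, p.1 * mo.c ^ (Multiplicative.toAdd p.2) ∈ moN := by
    intro p hp
    induction hp using closure_induction with
    | mem x hx =>
      rcases hx with rfl | rfl | rfl
      · simpa [X] using mo.mem_a
      · simpa [Y] using mo.mem_b
      · simpa [Z, mo_c_sq] using one_mem moN
    | one => simpa using one_mem moN
    | mul p q _ _ hp hq =>
      have : (p * q).1 * mo.c ^ (Multiplicative.toAdd (p * q).2) =
          p.1 * mo.c ^ Multiplicative.toAdd p.2 *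
            ((mo.c ^ Multiplicative.toAdd p.2)⁻¹ *
              (q.1 * mo.c ^ Multiplicative.toAdd q.2) * mo.c ^ Multiplicative.toAdd p.2) := by
        rw [Prod.fst_mul, Prod.snd_mul, toAdd_mul, zpow_add]
        generalize Multiplicative.toAdd p.2 = i
        generalize Multiplicative.toAdd q.2 = j
        rw [(Commute.zpow_zpow_self mo.c i j).eq]
        group
      rw [this]
      exact mul_mem hp (mo.normal_N.conj_mem' _ hq _)
    | inv p _ hp =>
      have : p⁻¹.1 * mo.c ^ (Multiplicative.toAdd p⁻¹.2) =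
          mo.c ^ Multiplicative.toAdd p.2 * (p.1 * mo.c ^ Multiplicative.toAdd p.2)⁻¹ *
            (mo.c ^ Multiplicative.toAdd p.2)⁻¹ * (mo.c ^ Multiplicative.toAdd p.2 *
              mo.c ^ Multiplicative.toAdd p.2)⁻¹ *
            (mo.c ^ Multiplicative.toAdd p.2 * mo.c ^ Multiplicative.toAdd p.2) := by
        rw [c2, inv_one, mul_one, mul_one, Prod.fst_inv, Prod.snd_inv, toAdd_inv, zpow_neg]
        group
      rw [this, c2, inv_one, mul_one, mul_one]
      exact mo.normal_N.conj_mem _ (inv_mem hp) _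
  let Φ : ↥K2 →* ↥(centralizer ({t} : Set G)) :=
    MonoidHom.mk' (fun p => (ψ ⟨_, hmem p.1 p.2⟩).1 * Cc ^ (Multiplicative.toAdd p.1.2)) (by
      rintro ⟨⟨p1, p2⟩, hp⟩ ⟨⟨q1, q2⟩, hq⟩
      have key : (⟨_, hmem _ (mul_mem hp hq)⟩ : ↥moN) = ⟨_, hmem _ hp⟩ *
          MulAut.conjNormal (mo.c ^ Multiplicative.toAdd p2) ⟨_, hmem _ hq⟩ := by
        refine Subtype.ext ?_
        simp only [Subgroup.coe_mul, MulAut.conjNormal_apply, Prod.fst_mul, Prod.snd_mul, toAdd_mul]
        generalize Multiplicative.toAdd p2 = i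
        generalize Multiplicative.toAdd q2 = j
        calc p1 * q1 * mo.c ^ (i + j)
            = p1 * (mo.c ^ i * mo.c ^ i) * q1 * mo.c ^ (i + j) * (mo.c ^ i * mo.c ^ i)⁻¹ := by
              rw [c2, inv_one, mul_one, mul_one]
          _ = p1 * mo.c ^ i * (mo.c ^ i * (q1 * mo.c ^ j) * (mo.c ^ i)⁻¹) := by
              rw [add_comm, zpow_add]; group
      show (ψ ⟨_, hmem _ (mul_mem hp hq)⟩).1 * Cc ^ (Multiplicative.toAdd (p2 * q2)) = _
      rw [key, map_mul, ← hzpow, toAdd_mul, zpow_add, Subgroup.coe_mul, MulAut.conjNormal_apply]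
      show _ = (ψ ⟨_, hmem _ hp⟩).1 * Cc ^ Multiplicative.toAdd p2 *
        ((ψ ⟨_, hmem _ hq⟩).1 * Cc ^ Multiplicative.toAdd q2)
      group)
  have hX : Φ ⟨X, subset_closure (by simp)⟩ = A.1 := by
    show (ψ ⟨mo.a * mo.c ^ (0 : ℤ), _⟩).1 * Cc ^ (0 : ℤ) = A.1
    rw [zpow_zero Cc, mul_one]
    exact congrArg (fun n => (ψ n).1) (Subtype.ext (show mo.a * mo.c ^ (0 : ℤ) = mo.a by
      rw [zpow_zero, mul_one]))
  have hY : Φ ⟨Y, subset_closure (by simp)⟩ = B.1 := by
    show (ψ ⟨mo.b * mo.c ^ (0 : ℤ), _⟩).1 * Cc ^ (0 : ℤ) = B.1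
    rw [zpow_zero Cc, mul_one]
    exact congrArg (fun n => (ψ n).1) (Subtype.ext (show mo.b * mo.c ^ (0 : ℤ) = mo.b by
      rw [zpow_zero, mul_one]))
  have hZ : Φ ⟨Z, subset_closure (by simp)⟩ = Cc := by
    show (ψ ⟨mo.c * mo.c ^ (1 : ℤ), _⟩).1 * Cc ^ (1 : ℤ) = Cc
    have e0 : ∀ hx : mo.c * mo.c ^ (1 : ℤ) ∈ moN, (⟨_, hx⟩ : ↥moN) = 1 := fun hx =>
      Subtype.ext (show mo.c * mo.c ^ (1 : ℤ) = 1 by rw [zpow_one, mo_c_sq])
    rw [zpow_one Cc, e0, map_one, Subgroup.coe_one, one_mul]
  -- values of words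
  have hev : ∀ w : List ℕ, evalW (elt mo.a mo.b mo.c) w = 1 → ∀ j : ℤ, zExp w = 2 * j →
      evalW (elt A.1.1 B.1.1 Cc.1) w = ((z ^ j : ↥M)).1.1 := by
    intro w hw j hj
    let x : ↥K2 := ⟨X, subset_closure (by simp)⟩
    let y : ↥K2 := ⟨Y, subset_closure (by simp)⟩
    let c : ↥K2 := ⟨Z, subset_closure (by simp)⟩
    have e1 := map_evalW ((centralizer ({t} : Set G)).subtype.comp Φ) x y c w
    rw [MonoidHom.comp_apply, MonoidHom.comp_apply, MonoidHom.comp_apply, MonoidHom.comp_apply,
      hX, hY, hZ] at e1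
    refine e1.symm.trans (congrArg Subtype.val ?_)
    have e2 : (evalW (elt x y c) w).1 = (1, Multiplicative.ofAdd (2 * j)) := by
      refine Prod.ext ?_ ?_
      · exact (map_evalW ((MonoidHom.fst Mo (Multiplicative ℤ)).comp K2.subtype) x y c w).trans hw
      · refine (map_evalW ((MonoidHom.snd Mo (Multiplicative ℤ)).comp K2.subtype) x y c w).trans ?_
        rw [← hj]
        rfl
    show (ψ ⟨_, _⟩).1 * Cc ^ (Multiplicative.toAdd (evalW (elt x y c) w).1.2) = (z ^ j).1
    have e3 : (⟨_, hmem _ (evalW (elt x y c) w).2⟩ : ↥moN) = 1 := Subtype.ext (by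
      show (evalW (elt x y c) w).1.1 * mo.c ^ Multiplicative.toAdd (evalW (elt x y c) w).1.2 = 1
      rw [e2, toAdd_ofAdd, one_mul, two_mul, zpow_add, c2])
    rw [e3, map_one, Subgroup.coe_one, one_mul, e2, toAdd_ofAdd, two_mul, zpow_add,
      ← (Commute.refl Cc).mul_zpow, hCC, Subgroup.coe_zpow]
  -- generation
  have htop : centralizer ({t} : Set G) = closure {A.1.1, B.1.1, Cc.1} := by
    refine le_antisymm ?_ ?_
    · intro g hg
      have hK : ∀ p : ↥K2, (Φ p).1 ∈ closure {A.1.1, B.1.1, Cc.1} := by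
        intro p
        have hp : p ∈ closure ({⟨X, subset_closure (by simp)⟩, ⟨Y, subset_closure (by simp)⟩,
            ⟨Z, subset_closure (by simp)⟩} : Set ↥K2) := by
          refine (mem_map_iff_mem K2.subtype_injective).1 ?_
          rw [MonoidHom.map_closure, Set.image_insert_eq, Set.image_insert_eq, Set.image_singleton]
          exact p.2
        induction hp using closure_induction with
        | mem x hx =>
          rcases hx with rfl | rfl | rfl
          · rw [hX]; exact subset_closure (by simp)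
          · rw [hY]; exact subset_closure (by simp)
          · rw [hZ]; exact subset_closure (by simp)
        | one => rw [map_one]; exact one_mem _
        | mul p q _ _ e e' => rw [map_mul, Subgroup.coe_mul]; exact mul_mem e e'
        | inv p _ e => rw [map_inv, Subgroup.coe_inv]; exact inv_mem e
      have hCcl : Cc.1 ∈ closure {A.1.1, B.1.1, Cc.1} := subset_closure (by simp)
      have hzc : ∀ k : ℤ, (Cc ^ k).1 ∈ closure {A.1.1, B.1.1, Cc.1} := fun k => by
        rw [Subgroup.coe_zpow]; exact zpow_mem hCcl k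
      have hM' : ∀ m : ↥M, m.1.1 ∈ closure {A.1.1, B.1.1, Cc.1} := by
        intro m
        obtain ⟨n, rfl⟩ := ψ.surjective m
        obtain ⟨p, hp⟩ : ∃ p : ↥K2, p.1.1 = n.1 := by
          have e : K2.map (MonoidHom.fst Mo (Multiplicative ℤ)) = ⊤ := by
            rw [MonoidHom.map_closure, Set.image_insert_eq, Set.image_insert_eq,
              Set.image_singleton]
            exact mo.top
          obtain ⟨q, hq, e'⟩ := mem_map.1 (e ▸ mem_top n.1 : n.1 ∈ K2.map _)
          exact ⟨⟨q, hq⟩, e'⟩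
        have hk : mo.c ^ Multiplicative.toAdd p.1.2 ∈ moN := by
          have := mul_mem (inv_mem n.2) (hmem p.1 p.2)
          rwa [hp, inv_mul_cancel_left] at this
        obtain ⟨j, hj⟩ : Even (Multiplicative.toAdd p.1.2) := by
          by_contra hev'
          obtain ⟨j, hj⟩ := Int.not_even_iff_odd.1 hev'
          rw [hj, zpow_add, zpow_one, two_mul, zpow_add, c2, one_mul] at hk
          exact mo.not_mem_c hk
        have hval : (Φ p).1 = (ψ n).1.1 * (Cc ^ Multiplicative.toAdd p.1.2).1 := by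
          show ((ψ ⟨_, _⟩).1 * Cc ^ Multiplicative.toAdd p.1.2).1 = _
          rw [Subgroup.coe_mul]
          refine congrArg (fun u : ↥moN => (ψ u).1.1 * (Cc ^ Multiplicative.toAdd p.1.2).1) ?_
          refine Subtype.ext ?_
          show p.1.1 * _ = n.1
          rw [hp, hj, zpow_add, c2, mul_one]
        have := mul_mem (hK p) (inv_mem (hzc (Multiplicative.toAdd p.1.2)))
        rwa [hval, mul_inv_cancel_right] at this
      by_cases hgM : (⟨g, hg⟩ : ↥(centralizer ({t} : Set G))) ∈ M
      · exact hM' ⟨_, hgM⟩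
      · have hm : (⟨g, hg⟩ : ↥(centralizer ({t} : Set G))) * Cc ∈ M :=
          (mul_mem_iff_of_index_two hM2).2 (iff_of_false hgM hCM)
        have := mul_mem (hM' ⟨_, hm⟩) (inv_mem hCcl)
        simpa using this
    · rw [closure_le]
      rintro x (rfl | rfl | rfl)
      exacts [A.1.2, B.1.2, Cc.2]
  refine ⟨?_, A.1.1, B.1.1, Cc.1, ?_⟩
  · have hN : Nat.card ↥moN = 88704000 := by
      rw [card_eq_card_quotient_mul_card_subgroup mo.σ.ker,
        Nat.card_congr (QuotientGroup.quotientKerEquivOfSurjective mo.σ mo.σ_surjective).toEquiv,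
        HS.card_hsGroup, mo.ker_eq.1]
    rw [← M.index_mul_card, hM2, ← Nat.card_congr ψ.toEquiv, hN]
  have hsq : A.1.1 * A.1.1 = t := congrArg (fun m : ↥M => m.1.1) hAA
  have hcc : Cc.1 * Cc.1 = z.1.1 := congrArg Subtype.val hCC
  have hrel : ∀ w ∈ xyzRels, evalW (elt A.1.1 B.1.1 Cc.1) w =
      if w = [4, 4] ∨ w = [4, 0, 4, 0] then z.1.1 else 1 := by
    intro w hw
    have h2 := zExp_rels w hw
    split_ifs with hsp
    · rw [if_pos hsp] at h2
      rw [hev w (mo.rels w hw) 1 (by rw [h2]; rfl), zpow_one]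
    · rw [if_neg hsp] at h2
      rcases h2 with h2 | h2
      · rw [hev w (mo.rels w hw) 0 (by rw [h2]; rfl), zpow_zero]
        rfl
      · rw [hev w (mo.rels w hw) 2 (by rw [h2]; rfl), zpow_two]
        rcases hz with rfl | rfl
        · simp
        · have e : tM * tM = 1 := Subtype.ext (Subtype.ext (by
            show t * t = 1
            rw [← pow_two, ← h.order, pow_orderOf_eq_one]))
          rw [e]
          rfl
  rcases hz with rfl | rfl
  · refine Or.inl ⟨hsq, ht1, fun w hw => ?_, htop⟩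
    rw [hrel w hw]
    split_ifs <;> rfl
  · refine Or.inr ⟨hsq, ht1, ⟨?_, ?_, fun w hw n1 n2 => ?_⟩, htop⟩
    · rw [hsq]; exact hcc
    · rw [hsq]
      have := hrel [4, 0, 4, 0] (by decide)
      rw [if_pos (Or.inr rfl)] at this
      simpa [evalW, elt, mul_assoc] using this
    · rw [hrel w hw, if_neg (by simp [n1, n2])]

/-- Piece A. -/
theorem coordSpec : CoordSpec := fun _ _ _ _ h => (exists_coord h).2

/-- The order of the centraliser. -/
theorem Hyp.card_centralizer (h : Hyp t) :
    Nat.card (centralizer ({t} : Set G)) = 177408000 := (exists_coord h).1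

end CfsgLib.HNRec
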